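import Groth.Agent.H17.PMapBase.Ring
import Groth.Agent.H17.PrinFactor
import Groth.Agent.H29Omega.LocalRingFE
import Groth.Agent.H29Omega.ConormalStalk
import Mathlib

/-!
# Base change of sheaves of principal parts
-/

set_option autoImplicit false
set_option linter.style.haveILetI false
set_option maxHeartbeats 400000
universe u

open CategoryTheory CategoryTheory.Limits AlgebraicGeometry TopologicalSpace Opposite TensorProduct

noncomputable section

namespace Groth.Agent.H17.PMapBase

open Groth.Agent.H06Mod Groth.Agent.H29Omega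

attribute [local instance] Groth.Agent.H06Mod.stalkAlgebra

variable {X S : Scheme.{u}} (f : X ⟶ S) (n : ℕ) (x : X)

local notation "Ox" => X.presheaf.stalk x
local notation "Os" => S.presheaf.stalk (f.base x)

/-- The germ of `1` in the structure module. -/
def oneGerm : ((Coh.structureModule X).presheaf.stalk x) := (Coh.structureModule X).presheaf.germ ⊤ x trivial (OmegaSh.strSect X ⊤ 1)

theorem germ_strSect (U : X.Opens) (hx : x ∈ U) (b : Γ(X, U)) :
    X.presheaf.germ U x hx b • oneGerm x =
      (Coh.structureModule X).presheaf.germ U x hx (OmegaSh.strSect X U b) := by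
  have h1 : oneGerm x = (Coh.structureModule X).presheaf.germ U x hx (OmegaSh.strSect X U 1) := by
    rw [oneGerm, ← TopCat.Presheaf.germ_res_apply _ (homOfLE (le_top : U ≤ ⊤)) x hx]
    exact congrArg _ (map_one (X.presheaf.map (homOfLE (le_top : U ≤ ⊤)).op).hom)
  rw [h1, ← H06Mod.germ_smul]
  exact congrArg _ (mul_one b)

theorem bijective_smul_oneGerm : Function.Bijective fun b : Ox => b • oneGerm x := by
  constructor
  · intro b c hbc
    obtain ⟨U, hU, b, rfl⟩ := X.presheaf.exists_germ_eq b
    obtain ⟨V, hV, c, rfl⟩ := X.presheaf.exists_germ_eq c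
    simp only [germ_strSect] at hbc
    obtain ⟨W, hW, i, j, hij⟩ := (Coh.structureModule X).presheaf.germ_eq x hU hV _ _ hbc
    rw [← TopCat.Presheaf.germ_res_apply X.presheaf i x hW, ← TopCat.Presheaf.germ_res_apply X.presheaf j x hW]
    exact congrArg _ hij
  · intro m
    obtain ⟨U, hU, m, rfl⟩ := (Coh.structureModule X).presheaf.exists_germ_eq m
    exact ⟨X.presheaf.germ U x hU (OmegaSh.fnSect X U m), germ_strSect x U hU _⟩

/-- `P^n_x` is `P^n` of the local rings. -/
theorem exists_equiv :
    ∃ Φ : PP16.P n Os Ox ≃ₗ[Ox] (PrinPart.P f n).presheaf.stalk x,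
      ∀ (U : X.Opens) (hx : x ∈ U) (b : Γ(X, U)),
        Φ (PP16.dn n Os Ox (X.presheaf.germ U x hx b)) =
          (PrinPart.P f n).presheaf.germ U x hx (PrinPart.dn f n U b) := by
  obtain ⟨Ψ, hΨ, hΨd, hΨs⟩ := PrinFactor.exists_stalk_equiv f n (Coh.structureModule X) x
  let e : Ox ≃ₗ[Ox] ((Coh.structureModule X).presheaf.stalk x) :=
    LinearEquiv.ofBijective (LinearMap.toSpanSingleton Ox ((Coh.structureModule X).presheaf.stalk x) (oneGerm x)) (bijective_smul_oneGerm x)
  let ρ : PP16.P n Os Ox → PP16.PM n Os Ox ((Coh.structureModule X).presheaf.stalk x) := fun a => (show PP16.Pr n Os Ox from a) ⊗ₜ oneGerm x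
  have hρ : Function.Bijective ρ := by
    let E := (TensorProduct.rid Ox (PP16.Pr n Os Ox)).symm.trans
      (TensorProduct.congr (LinearEquiv.refl Ox (PP16.Pr n Os Ox)) e)
    have : ρ = E := funext fun a => by
      simp only [E, ρ, LinearEquiv.trans_apply, TensorProduct.rid_symm_apply, TensorProduct.congr_tmul,
        LinearEquiv.refl_apply]
      congr 1
      exact (one_smul Ox _).symm
    rw [this]
    exact E.bijective
  let Φ₀ : PP16.P n Os Ox →ₗ[Ox] (PrinPart.P f n).presheaf.stalk x :=
    { toFun := fun a => Ψ (ρ a)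
      map_add' := fun a b => by
        rw [← map_add]
        exact congrArg Ψ (TensorProduct.add_tmul _ _ _)
      map_smul' := fun b a => by
        refine Eq.trans (congrArg Ψ ?_) (hΨs b (ρ a))
        simp only [ρ, Algebra.smul_def, TensorProduct.smul_tmul']
        rfl }
  refine ⟨LinearEquiv.ofBijective Φ₀ (hΨ.comp hρ), fun U hx b => ?_⟩
  refine Eq.trans ?_ (hΨd U hx (OmegaSh.strSect X U b))
  show Ψ (ρ (PP16.dn n Os Ox (X.presheaf.germ U x hx b))) = _
  rw [← germ_strSect x U hx b]
  refine congrArg Ψ ?_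
  show (show PP16.Pr n Os Ox from PP16.dn n Os Ox (X.presheaf.germ U x hx b)) ⊗ₜ oneGerm x =
    (1 : PP16.Pr n Os Ox) ⊗ₜ (X.presheaf.germ U x hx b • oneGerm x)
  rw [TensorProduct.tmul_smul, TensorProduct.smul_tmul']
  congr 1
  rw [Algebra.smul_def, mul_one]
  rfl

variable {X' S' : Scheme.{u}} {f n} (g : S' ⟶ S) (u : X' ⟶ X) (f' : X' ⟶ S')

theorem bijective_stalk (hsq : IsPullback u f' f g)
    (φ : (Scheme.Modules.pullback u).obj (PrinPart.P f n) ⟶ PrinPart.P f' n)
    (hφ : PrinPart.IsPMap f f' u n φ) (x' : X') : Function.Bijective (stalkLin φ x') := by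
  let A := S.presheaf.stalk (f.base (u.base x'))
  let B := X.presheaf.stalk (u.base x')
  let A' := S'.presheaf.stalk (f'.base x')
  let B' := X'.presheaf.stalk x'
  letI : Algebra A A' := (baseStalkMap f f' g u hsq.w x').hom.toAlgebra
  letI : Algebra A B' := ((u.stalkMap x').hom.comp (f.stalkMap (u.base x')).hom).toAlgebra
  haveI : IsScalarTower A B B' := .of_algebraMap_eq fun _ => rfl
  haveI : IsScalarTower A A' B' := .of_algebraMap_eq fun r =>
    (congr($(congrArg CommRingCat.Hom.hom (baseStalkMap_comp f f' g u hsq.w x')) r)).symm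
  let c : Spec B' ⟶ pullback f g := X'.fromSpecStalk x' ≫ hsq.isoPullback.hom
  haveI : Flat (X'.fromSpecStalk x') := inferInstance
  haveI : Flat c := inferInstance
  haveI : Mono c := mono_comp _ _
  have hc1 : Spec.map (CommRingCat.ofHom (algebraMap B B')) ≫ X.fromSpecStalk (u.base x') =
      c ≫ pullback.fst f g := by
    rw [Category.assoc, hsq.isoPullback_hom_fst]
    exact Scheme.SpecMap_stalkMap_fromSpecStalk u
  have hc2 : Spec.map (CommRingCat.ofHom (algebraMap A' B')) ≫ S'.fromSpecStalk (f'.base x') =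
      c ≫ pullback.snd f g := by
    rw [Category.assoc, hsq.isoPullback_hom_snd]
    exact Scheme.SpecMap_stalkMap_fromSpecStalk f'
  have hflat := H06Mod.flat_tensorLift A B A' B' f g (X.fromSpecStalk (u.base x'))
    (S.fromSpecStalk (f.base (u.base x'))) (S'.fromSpecStalk (f'.base x'))
    (Scheme.SpecMap_stalkMap_fromSpecStalk f) (specMap_baseStalkMap f f' g u hsq.w x') c hc1 hc2
  have hepi : letI := (H06Mod.tensorLift A B A' B').toRingHom.toAlgebra; Algebra.IsEpi (B ⊗[A] A') B' := by
    letI : Algebra (B ⊗[A] A') B' := (H06Mod.tensorLift A B A' B').toRingHom.toAlgebra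
    exact CommRingCat.epi_iff_epi.mp (epi_tensorLift A B A' B' f g (X.fromSpecStalk (u.base x'))
      (S.fromSpecStalk (f.base (u.base x'))) (S'.fromSpecStalk (f'.base x'))
      (Scheme.SpecMap_stalkMap_fromSpecStalk f) (specMap_baseStalkMap f f' g u hsq.w x') c hc1 hc2)
  have hL := bijective_of_tensorLift (n := n) A B A' B' hflat hepi
  obtain ⟨Φ, hΦ⟩ := exists_equiv f n (u.base x')
  obtain ⟨Φ', hΦ'⟩ := exists_equiv f' n x'
  letI : Algebra (PP16.P n A B) (PP16.P n A' B') := PP16.mapAlgebra n A B A' B'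
  haveI := PP16.isScalarTower_mapAlgebra n A B A' B'
  let L := (IsScalarTower.toAlgHom B (PP16.P n A B) (PP16.P n A' B')).toLinearMap.liftBaseChange B'
  have hLt : ∀ r a, L (r ⊗ₜ a) = r • PP16.map n A B A' B' a := fun r a => LinearMap.liftBaseChange_tmul _ _ _ _
  -- the value on generators
  have hgen : ∀ a, stalkLin φ x' (pullStalk u (PrinPart.P f n) x' (Φ a)) = Φ' (PP16.map n A B A' B' a) := by
    intro a
    obtain ⟨z, rfl⟩ := Ideal.Quotient.mk_surjective a
    induction z using TensorProduct.induction_on with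
    | zero => simp
    | add p q hp hq => simp only [map_add, hp, hq]
    | tmul b₁ b₂ =>
      have hz : Ideal.Quotient.mk (KaehlerDifferential.ideal A B ^ (n + 1)) (b₁ ⊗ₜ b₂) =
          b₁ • PP16.dn n A B b₂ := by
        rw [Algebra.smul_def]
        show _ = Ideal.Quotient.mk _ (b₁ ⊗ₜ[A] (1 : B)) * Ideal.Quotient.mk _ ((1 : B) ⊗ₜ[A] b₂)
        rw [← map_mul, Algebra.TensorProduct.tmul_mul_tmul, mul_one, one_mul]
      erw [hz]
      have hm : PP16.map n A B A' B' (b₁ • PP16.dn n A B b₂) =
          algebraMap B B' b₁ • PP16.dn n A' B' (algebraMap B B' b₂) := by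
        rw [Algebra.smul_def, map_mul, PP16.map_algebraMap, PP16.map_dn, Algebra.smul_def]
      rw [hm, map_smul, pullStalk_smul, map_smul, map_smul]
      refine congrArg ((u.stalkMap x').hom b₁ • ·) ?_
      obtain ⟨U, hU, b, rfl⟩ := X.presheaf.exists_germ_eq b₂
      have e : algebraMap B B' (X.presheaf.germ U (u.base x') hU b) =
          X'.presheaf.germ (u ⁻¹ᵁ U) x' hU (u.app U b) :=
        Scheme.Hom.germ_stalkMap_apply u U x' hU b
      rw [hΦ, e, hΦ', pullStalk_germ, stalkLin_germ]
      exact congrArg _ (hφ U b)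
  let E : B' ⊗[B] PP16.P n A B ≃ₗ[B'] ((Scheme.Modules.pullback u).obj (PrinPart.P f n)).presheaf.stalk x' :=
    (TensorProduct.AlgebraTensorModule.congr (LinearEquiv.refl B' B') Φ).trans (pullStalkEquiv u (PrinPart.P f n) x')
  have key : ∀ t, stalkLin φ x' (E t) = Φ' (L t) := by
    intro t
    induction t using TensorProduct.induction_on with
    | zero => simp
    | add p q hp hq => simp only [map_add, hp, hq]
    | tmul r a =>
      rw [hLt, map_smul, ← hgen]
      show stalkLin φ x' (pullStalkLin u (PrinPart.P f n) x' (r ⊗ₜ Φ a)) = _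
      rw [pullStalkLin_tmul, map_smul]
  have : (stalkLin φ x' : _ → _) ∘ E = (Φ' : _ → _) ∘ L := funext key
  exact (Function.Bijective.of_comp_iff _ E.bijective).1 (this ▸ Φ'.bijective.comp hL)

end Groth.Agent.H17.PMapBase
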