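import Groth.Agent.H06PP.BaseChange
import Groth.Agent.H06Mod.StalkBaseChange
import Groth.Agent.H29Omega.StalkCompat
import Mathlib

/-!
# Principal parts of local rings of fibre products
-/

set_option autoImplicit false
set_option linter.style.haveILetI false
universe u

open scoped TensorProduct

noncomputable section

namespace Groth.Agent.H17.PMapBase

attribute [local instance] PP16.mapAlgebra PP16.isScalarTower_mapAlgebra

/-- A flat epimorphism to a local ring is the localisation at the contracted prime. -/
theorem isLocalization_of_flat_epi_local (T C : Type u) [CommRing T] [CommRing C] [Algebra T C]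
    [IsLocalRing C] [Module.Flat T C] [Algebra.IsEpi T C] :
    ∃ S : Submonoid T, IsLocalization S C := by
  let q : Ideal T := (IsLocalRing.maximalIdeal C).comap (algebraMap T C)
  haveI : q.IsPrime := (IsLocalRing.maximalIdeal.isMaximal C).isPrime.comap _
  let Tq := Localization.AtPrime q
  have hu : ∀ y : q.primeCompl, IsUnit (algebraMap T C y) := fun y => by
    by_contra h
    exact y.2 ((IsLocalRing.mem_maximalIdeal _).2 h)
  letI : Algebra Tq C := (IsLocalization.lift hu : Tq →+* C).toAlgebra
  haveI : IsScalarTower T Tq C :=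
    IsScalarTower.of_algebraMap_eq fun t => (IsLocalization.lift_eq hu t).symm
  haveI : Module.Flat Tq C := (Module.flat_iff_of_isLocalization Tq q.primeCompl C).mpr inferInstance
  haveI : IsLocalHom (algebraMap Tq C) := by
    refine ((IsLocalRing.local_hom_TFAE (algebraMap Tq C)).out 0 2).mpr ?_
    rw [← Localization.AtPrime.map_eq_maximalIdeal, Ideal.map_map, ← IsScalarTower.algebraMap_eq]
    exact Ideal.map_comap_le
  haveI : Module.FaithfullyFlat Tq C := Module.FaithfullyFlat.of_flat_of_isLocalHom
  have hepi : ∀ c : C, (1 : C) ⊗ₜ[Tq] c = c ⊗ₜ[Tq] (1 : C) := fun c => by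
    have h := (Algebra.isEpi_iff_forall_one_tmul_eq T C).1 inferInstance c
    exact congrArg (TensorProduct.mapOfCompatibleSMul Tq T Tq C C) h
  have hbij : Function.Bijective (algebraMap Tq C) := by
    refine Module.FaithfullyFlat.bijective_of_tensorProduct (S := C) ⟨fun a b h => ?_, fun z => ?_⟩
    · have := congrArg (Algebra.TensorProduct.lmul' Tq (S := C)) h
      simpa [Algebra.TensorProduct.algebraMap_apply] using this
    · refine ⟨Algebra.TensorProduct.lmul' Tq z, ?_⟩
      induction z using TensorProduct.induction_on with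
      | zero => simp
      | add a b ha hb => rw [map_add, map_add, ha, hb]
      | tmul a b =>
        rw [Algebra.TensorProduct.lmul'_apply_tmul, Algebra.TensorProduct.algebraMap_apply,
          Algebra.algebraMap_self, RingHom.id_apply,
          show (a * b) ⊗ₜ[Tq] (1 : C) = a • (b ⊗ₜ[Tq] (1 : C)) from (TensorProduct.smul_tmul' a b 1).symm,
          ← hepi b, TensorProduct.smul_tmul', smul_eq_mul, mul_one]
  exact ⟨q.primeCompl, IsLocalization.isLocalization_of_algEquiv q.primeCompl
      (AlgEquiv.ofBijective (IsScalarTower.toAlgHom T Tq C) hbij)⟩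

/-- Principal parts base change to a localisation of the tensor product. -/
theorem bijective_of_tensorLift_aux {n : ℕ} (A B A' B' : Type u) [CommRing A] [CommRing B] [CommRing A'] [CommRing B']
    [Algebra A B] [Algebra A A'] [Algebra A B'] [Algebra B B'] [Algebra A' B'] [IsScalarTower A B B']
    [IsScalarTower A A' B'] [IsLocalRing B']
    (hflat : letI := (H06Mod.tensorLift A B A' B').toRingHom.toAlgebra; Module.Flat (B ⊗[A] A') B')
    (hepi : letI := (H06Mod.tensorLift A B A' B').toRingHom.toAlgebra; Algebra.IsEpi (B ⊗[A] A') B')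
    {Q : Type u} [CommRing Q] [Algebra B Q] [Algebra B' Q] [IsScalarTower B B' Q]
    [Algebra (PP16.P n A B) Q] [IsScalarTower B (PP16.P n A B) Q]
    [Algebra.IsPushout B B' (PP16.P n A B) Q] :
    Algebra.IsPushout B (PP16.P n A B) B' (PP16.P n A' B') := by
  let T := B ⊗[A] A'
  letI : Algebra T B' := (H06Mod.tensorLift A B A' B').toRingHom.toAlgebra
  haveI : Module.Flat T B' := hflat
  haveI : Algebra.IsEpi T B' := hepi
  obtain ⟨S, hS⟩ := isLocalization_of_flat_epi_local T B'
  letI : Algebra A' Q := ((algebraMap B' Q).comp (algebraMap A' B')).toAlgebra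
  haveI : IsScalarTower A' B' Q := .of_algebraMap_eq fun _ => rfl
  letI : Algebra A Q := ((algebraMap B' Q).comp (algebraMap A B')).toAlgebra
  haveI : IsScalarTower A B' Q := .of_algebraMap_eq fun _ => rfl
  let i : PP16.P n A B →+* Q := algebraMap (PP16.P n A B) Q
  let g₁ : B →ₐ[A] Q :=
    { i.comp (PP16.dn n A B).toRingHom with
      commutes' := fun a => by
        show i (PP16.dn n A B (algebraMap A B a)) = _
        rw [AlgHom.commutes, IsScalarTower.algebraMap_apply A B (PP16.P n A B)]
        show algebraMap (PP16.P n A B) Q (algebraMap B (PP16.P n A B) (algebraMap A B a)) = _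
        rw [← IsScalarTower.algebraMap_apply B (PP16.P n A B) Q, IsScalarTower.algebraMap_apply B B' Q,
          ← IsScalarTower.algebraMap_apply A B B']
        rfl }
  let g₂ : A' →ₐ[A] Q :=
    { algebraMap A' Q with
      commutes' := fun a => by
        show algebraMap B' Q (algebraMap A' B' (algebraMap A A' a)) = _
        rw [← IsScalarTower.algebraMap_apply A A' B']
        rfl }
  let δT : T →ₐ[A] Q := Algebra.TensorProduct.lift g₁ g₂ fun _ _ => Commute.all _ _
  let N : Ideal Q := (PP16.augIdeal n A B).map i
  have hN : N ^ (n + 1) = ⊥ := H06PP.map_augIdeal_pow i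
  have hmem : ∀ t : T, δT t - algebraMap B' Q (algebraMap T B' t) ∈ N := by
    intro t
    induction t using TensorProduct.induction_on with
    | zero => simp
    | add a b ha hb => rw [map_add, map_add, map_add, add_sub_add_comm]; exact add_mem ha hb
    | tmul b a' =>
      have e1 : algebraMap T B' (b ⊗ₜ a') = algebraMap B B' b * algebraMap A' B' a' := by
        show H06Mod.tensorLift A B A' B' (b ⊗ₜ a') = _
        simp [H06Mod.tensorLift]
      have e2 : δT (b ⊗ₜ a') = i (PP16.dn n A B b) * algebraMap B' Q (algebraMap A' B' a') := by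
        simp only [δT, Algebra.TensorProduct.lift_tmul]
        rfl
      rw [e1, e2, map_mul, ← sub_mul, ← IsScalarTower.algebraMap_apply B B' Q,
        IsScalarTower.algebraMap_apply B (PP16.P n A B) Q]
      exact Ideal.mul_mem_right _ _ (H06PP.map_dn_sub_mem _ b)
  have hu : ∀ s : S, IsUnit (δT.toRingHom s) := fun s => by
    have h1 : IsUnit (algebraMap B' Q (algebraMap T B' s)) := (IsLocalization.map_units B' s).map _
    have h2 : IsNilpotent (δT s - algebraMap B' Q (algebraMap T B' s)) :=
      ⟨n + 1, Ideal.mem_bot.mp (hN ▸ Ideal.pow_mem_pow (hmem s) _)⟩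
    have h3 := h2.isUnit_add_left_of_commute h1 (Commute.all _ _)
    rwa [add_sub_cancel] at h3
  let δ : B' →ₐ[A'] Q :=
    { IsLocalization.lift hu with
      commutes' := fun a' => by
        have e : algebraMap A' B' a' = algebraMap T B' (1 ⊗ₜ a') := by
          show _ = H06Mod.tensorLift A B A' B' (1 ⊗ₜ a')
          simp [H06Mod.tensorLift]
        show IsLocalization.lift hu (algebraMap A' B' a') = _
        rw [e, IsLocalization.lift_eq]
        show δT (1 ⊗ₜ a') = _
        refine (Algebra.TensorProduct.lift_tmul g₁ g₂ (fun _ _ => Commute.all _ _) 1 a').trans ?_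
        rw [map_one g₁, one_mul]
        rfl }
  have hδ : ∀ b, δ (algebraMap B B' b) = algebraMap (PP16.P n A B) Q (PP16.dn n A B b) := fun b => by
    have e : algebraMap B B' b = algebraMap T B' (b ⊗ₜ 1) := by
      show _ = H06Mod.tensorLift A B A' B' (b ⊗ₜ 1)
      simp [H06Mod.tensorLift]
    show IsLocalization.lift hu (algebraMap B B' b) = _
    rw [e, IsLocalization.lift_eq]
    show δT (b ⊗ₜ 1) = _
    refine (Algebra.TensorProduct.lift_tmul g₁ g₂ (fun _ _ => Commute.all _ _) b 1).trans ?_
    rw [map_one g₂, mul_one]
    rfl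
  have hext : ∀ (R : Type u) [CommRing R] [Algebra A' R] (f g : B' →ₐ[A'] R),
      (∀ b, f (algebraMap B B' b) = g (algebraMap B B' b)) → f = g := by
    intro R _ _ f g h
    refine AlgHom.coe_ringHom_injective (IsLocalization.ringHom_ext S (RingHom.ext fun t => ?_))
    induction t using TensorProduct.induction_on with
    | zero => simp
    | add a b ha hb => simp only [map_add, ha, hb]
    | tmul b a' =>
      show f (algebraMap T B' (b ⊗ₜ a')) = g (algebraMap T B' (b ⊗ₜ a'))
      rw [show algebraMap T B' (b ⊗ₜ a') = algebraMap B B' b * algebraMap A' B' a' by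
        show H06Mod.tensorLift A B A' B' (b ⊗ₜ a') = _
        simp [H06Mod.tensorLift], map_mul, map_mul, h, AlgHom.commutes, AlgHom.commutes]
  exact H06PP.isPushout_of_second δ hδ hext

/-- Principal parts base change to a localisation of the tensor product, as a bijection. -/
theorem bijective_of_tensorLift {n : ℕ} (A B A' B' : Type u) [CommRing A] [CommRing B] [CommRing A'] [CommRing B']
    [Algebra A B] [Algebra A A'] [Algebra A B'] [Algebra B B'] [Algebra A' B'] [IsScalarTower A B B']
    [IsScalarTower A A' B'] [IsLocalRing B']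
    (hflat : letI := (H06Mod.tensorLift A B A' B').toRingHom.toAlgebra; Module.Flat (B ⊗[A] A') B')
    (hepi : letI := (H06Mod.tensorLift A B A' B').toRingHom.toAlgebra; Algebra.IsEpi (B ⊗[A] A') B') :
    haveI := PP16.isScalarTower_mapAlgebra n A B A' B'
    Function.Bijective ((IsScalarTower.toAlgHom B (PP16.P n A B) (PP16.P n A' B')).toLinearMap.liftBaseChange B') := by
  haveI := PP16.isScalarTower_mapAlgebra n A B A' B'
  letI : Algebra (PP16.P n A B) (B' ⊗[B] PP16.P n A B) := Algebra.TensorProduct.rightAlgebra
  haveI hp := bijective_of_tensorLift_aux (n := n) A B A' B' hflat hepi (Q := B' ⊗[B] PP16.P n A B)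
  exact (H29Omega.isBaseChange_iff_bijective _).1 hp.symm.out

end Groth.Agent.H17.PMapBase
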